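import Groth.Agent.Lib.Ample.Coprod
import Groth.Agent.Lib.Ample.Criterion
import Groth.Agent.Lib.Ample.Frame
import Groth.Agent.Lib.Euler.Coh
import Groth.Agent.Lib.AmpleFamily29.Rel
import Groth.Prelude.Def_MoreMor

/-!
# Ample families on disjoint unions
-/

set_option autoImplicit false
set_option backward.isDefEq.respectTransparency false
set_option linter.style.haveILetI false
universe u

open AlgebraicGeometry CategoryTheory CategoryTheory.Limits TopologicalSpace Opposite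
open GrothLib GrothLib.Ample

noncomputable section

namespace GrothLib.AdmAmple8

variable {A B : Scheme.{u}} (c₁ : Cocycle A) (c₂ : Cocycle B)

theorem exists_sect_inl {n : ℕ} (a : c₁.sect n ⊤) :
    ∃ a' : (coprodCocycle c₁ c₂).sect n ⊤,
      (coprodCocycle c₁ c₂).locus a' = (coprod.inl : A ⟶ A ⨿ B) ''ᵁ c₁.locus a := by
  let j : A ⟶ A ⨿ B := coprod.inl
  let c := coprodCocycle c₁ c₂
  have hor : ∀ i, (⊤ : (A ⨿ B : Scheme.{u}).Opens) ⊓ j ''ᵁ c₁.D i ≤ j.opensRange := fun i =>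
    inf_le_right.trans (j.image_le_opensRange _)
  have hpre : ∀ i, (⊤ : A.Opens) ⊓ c₁.D i = j ⁻¹ᵁ (⊤ ⊓ j ''ᵁ c₁.D i) := fun i => by
    rw [Scheme.Hom.preimage_inf, Scheme.Hom.preimage_top, j.preimage_image_eq]
  choose b hb using fun i => (bijective_appLE_of_eq j (hor i) (hpre i)).2 (a.1 i)
  let f : ∀ p : c.ι, Γ((A ⨿ B : Scheme.{u}), ⊤ ⊓ c.D p) := fun p => match p with
    | .inl i => b i
    | .inr _ => 0
  have hbot : ∀ (i : c₁.ι) (k : c₂.ι) (W : (A ⨿ B : Scheme.{u}).Opens), W ≤ ⊤ ⊓ c.D (.inl i) →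
      W ≤ ⊤ ⊓ c.D (.inr k) → ∀ x y : Γ((A ⨿ B : Scheme.{u}), W), x = y := fun i k W hi hk => by
    haveI := subsingleton_of_le_bot ((le_inf (hi.trans inf_le_right) (hk.trans inf_le_right)).trans
      (image_inl_inf_image_inr (c₁.D i) (c₂.D k)).le)
    exact fun x y => Subsingleton.elim x y
  have hf : f ∈ c.sect n ⊤ := by
    rintro (i | k) (i' | k') W hi hj
    · have hi' : j ⁻¹ᵁ W ≤ ⊤ ⊓ c₁.D i := (j.preimage_mono hi).trans (hpre i).ge
      have hj' : j ⁻¹ᵁ W ≤ ⊤ ⊓ c₁.D i' := (j.preimage_mono hj).trans (hpre i').ge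
      refine (bijective_appLE_of_eq j (hi.trans (hor i)) rfl).1 ?_
      rw [map_mul, map_pow, appLE_res]
      erw [appLE_res]
      erw [appLE_res, appLE_imageG j c₁ i i' (hi'.trans inf_le_right) (hj'.trans inf_le_right)]
      have h1 := congrArg (res hi') (hb i)
      have h2 := congrArg (res hj') (hb i')
      rw [res_appLE] at h1 h2
      refine h1.trans ((c₁.sect_spec a i i' hi' hj').trans ?_)
      exact congrArg (_ * ·) h2.symm
    · exact hbot i k' W hi hj _ _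
    · exact hbot i' k W hj hi _ _
    · show res hi (0 : Γ((A ⨿ B : Scheme.{u}), ⊤ ⊓ c.D (.inr k))) = _ * res hj 0
      rw [map_zero, map_zero, mul_zero]
  refine ⟨⟨f, hf⟩, ?_⟩
  have hbo : ∀ i, (A ⨿ B : Scheme.{u}).basicOpen (b i) = j ''ᵁ A.basicOpen (a.1 i) := fun i => by
    rw [← hb i, Scheme.basicOpen_appLE, inf_eq_right.2 ((j.preimage_mono (Scheme.basicOpen_le _ _)).trans (hpre i).ge),
      Scheme.Hom.image_preimage_eq_opensRange_inf, inf_eq_right.2 ((Scheme.basicOpen_le _ _).trans (hor i))]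
  refine le_antisymm (iSup_le ?_) ?_
  · rintro (i | k)
    · exact (hbo i).le.trans (Scheme.Hom.image_mono _ (le_iSup (fun i => A.basicOpen (a.1 i)) i))
    · exact (le_of_eq (Scheme.basicOpen_zero _ _)).trans bot_le
  · rintro _ ⟨x, hx, rfl⟩
    obtain ⟨i, hi⟩ := Opens.mem_iSup.1 hx
    exact Opens.mem_iSup.2 ⟨.inl i, (hbo i).ge ⟨x, hi, rfl⟩⟩

theorem exists_affine_locus_inl (hA : MoreMor.HasAmpleFamily A) (x : A) :
    ∃ (L : (A ⨿ B : Scheme.{u}).Modules) (n : ℕ) (s : Coh.structureModule (A ⨿ B : Scheme.{u}) ⟶ CohB1.tensorPow L n),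
      PicF.IsInvertible L ∧ 1 ≤ n ∧ (coprod.inl : A ⟶ A ⨿ B) x ∈ CohB1.genLocus (CohB1.tensorPow L n) s ∧
        IsAffineOpen (CohB1.genLocus (CohB1.tensorPow L n) s) := by
  obtain ⟨L, n, s, hL, hn, hx, hAff⟩ := hA.2 x
  obtain ⟨c₁, ⟨e⟩⟩ := exists_cocycle hL
  obtain ⟨c₂, -⟩ := exists_cocycle (Euler.isInvertible_structure (X := B))
  obtain ⟨a, ha⟩ := c₁.exists_sect_of_section (c₁.nonempty_tensorPow_iso e n).some s
  obtain ⟨a', ha'⟩ := exists_sect_inl c₁ c₂ a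
  let c := coprodCocycle c₁ c₂
  obtain ⟨d⟩ := c.nonempty_tensorPow_iso (Iso.refl (c.twist 1)) n
  obtain ⟨t, ht⟩ := c.exists_section_of_sect d a'
  refine ⟨c.twist 1, n, t, c.isInvertible_twist 1, hn, ?_, ?_⟩
  · rw [ht, ha', ha]
    exact ⟨x, hx, rfl⟩
  · rw [ht, ha', ha]
    exact hAff.image_of_isOpenImmersion _

theorem exists_sect_inr {n : ℕ} (a : c₂.sect n ⊤) :
    ∃ a' : (coprodCocycle c₁ c₂).sect n ⊤,
      (coprodCocycle c₁ c₂).locus a' = (coprod.inr : B ⟶ A ⨿ B) ''ᵁ c₂.locus a := by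
  let j : B ⟶ A ⨿ B := coprod.inr
  let c := coprodCocycle c₁ c₂
  have hor : ∀ i, (⊤ : (A ⨿ B : Scheme.{u}).Opens) ⊓ j ''ᵁ c₂.D i ≤ j.opensRange := fun i =>
    inf_le_right.trans (j.image_le_opensRange _)
  have hpre : ∀ i, (⊤ : B.Opens) ⊓ c₂.D i = j ⁻¹ᵁ (⊤ ⊓ j ''ᵁ c₂.D i) := fun i => by
    rw [Scheme.Hom.preimage_inf, Scheme.Hom.preimage_top, j.preimage_image_eq]
  choose b hb using fun i => (bijective_appLE_of_eq j (hor i) (hpre i)).2 (a.1 i)
  let f : ∀ p : c.ι, Γ((A ⨿ B : Scheme.{u}), ⊤ ⊓ c.D p) := fun p => match p with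
    | .inr i => b i
    | .inl _ => 0
  have hbot : ∀ (i : c₂.ι) (k : c₁.ι) (W : (A ⨿ B : Scheme.{u}).Opens), W ≤ ⊤ ⊓ c.D (.inr i) →
      W ≤ ⊤ ⊓ c.D (.inl k) → ∀ x y : Γ((A ⨿ B : Scheme.{u}), W), x = y := fun i k W hi hk => by
    haveI := subsingleton_of_le_bot ((le_inf (hi.trans inf_le_right) (hk.trans inf_le_right)).trans
      (inf_comm _ _ |>.trans (image_inl_inf_image_inr (c₁.D k) (c₂.D i))).le)
    exact fun x y => Subsingleton.elim x y
  have hf : f ∈ c.sect n ⊤ := by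
    rintro (k | i) (k' | i') W hi hj
    · show res hi (0 : Γ((A ⨿ B : Scheme.{u}), ⊤ ⊓ c.D (.inl k))) = _ * res hj 0
      rw [map_zero, map_zero, mul_zero]
    · exact hbot i' k W hj hi _ _
    · exact hbot i k' W hi hj _ _
    · have hi' : j ⁻¹ᵁ W ≤ ⊤ ⊓ c₂.D i := (j.preimage_mono hi).trans (hpre i).ge
      have hj' : j ⁻¹ᵁ W ≤ ⊤ ⊓ c₂.D i' := (j.preimage_mono hj).trans (hpre i').ge
      refine (bijective_appLE_of_eq j (hi.trans (hor i)) rfl).1 ?_
      rw [map_mul, map_pow, appLE_res]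
      erw [appLE_res]
      erw [appLE_res, appLE_imageG j c₂ i i' (hi'.trans inf_le_right) (hj'.trans inf_le_right)]
      have h1 := congrArg (res hi') (hb i)
      have h2 := congrArg (res hj') (hb i')
      rw [res_appLE] at h1 h2
      refine h1.trans ((c₂.sect_spec a i i' hi' hj').trans ?_)
      exact congrArg (_ * ·) h2.symm
  refine ⟨⟨f, hf⟩, ?_⟩
  have hbo : ∀ i, (A ⨿ B : Scheme.{u}).basicOpen (b i) = j ''ᵁ B.basicOpen (a.1 i) := fun i => by
    rw [← hb i, Scheme.basicOpen_appLE, inf_eq_right.2 ((j.preimage_mono (Scheme.basicOpen_le _ _)).trans (hpre i).ge),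
      Scheme.Hom.image_preimage_eq_opensRange_inf, inf_eq_right.2 ((Scheme.basicOpen_le _ _).trans (hor i))]
  refine le_antisymm (iSup_le ?_) ?_
  · rintro (k | i)
    · exact (le_of_eq (Scheme.basicOpen_zero _ _)).trans bot_le
    · exact (hbo i).le.trans (Scheme.Hom.image_mono _ (le_iSup (fun i => B.basicOpen (a.1 i)) i))
  · rintro _ ⟨x, hx, rfl⟩
    obtain ⟨i, hi⟩ := Opens.mem_iSup.1 hx
    exact Opens.mem_iSup.2 ⟨.inr i, (hbo i).ge ⟨x, hi, rfl⟩⟩

theorem exists_affine_locus_inr (hA : MoreMor.HasAmpleFamily B) (x : B) :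
    ∃ (L : (A ⨿ B : Scheme.{u}).Modules) (n : ℕ) (s : Coh.structureModule (A ⨿ B : Scheme.{u}) ⟶ CohB1.tensorPow L n),
      PicF.IsInvertible L ∧ 1 ≤ n ∧ (coprod.inr : B ⟶ A ⨿ B) x ∈ CohB1.genLocus (CohB1.tensorPow L n) s ∧
        IsAffineOpen (CohB1.genLocus (CohB1.tensorPow L n) s) := by
  obtain ⟨L, n, s, hL, hn, hx, hAff⟩ := hA.2 x
  obtain ⟨c₂, ⟨e⟩⟩ := exists_cocycle hL
  obtain ⟨c₁, -⟩ := exists_cocycle (Euler.isInvertible_structure (X := A))
  obtain ⟨a, ha⟩ := c₂.exists_sect_of_section (c₂.nonempty_tensorPow_iso e n).some s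
  obtain ⟨a', ha'⟩ := exists_sect_inr c₁ c₂ a
  let c := coprodCocycle c₁ c₂
  obtain ⟨d⟩ := c.nonempty_tensorPow_iso (Iso.refl (c.twist 1)) n
  obtain ⟨t, ht⟩ := c.exists_section_of_sect d a'
  refine ⟨c.twist 1, n, t, c.isInvertible_twist 1, hn, ?_, ?_⟩
  · rw [ht, ha', ha]
    exact ⟨x, hx, rfl⟩
  · rw [ht, ha', ha]
    exact hAff.image_of_isOpenImmersion _

/-- A disjoint union of two schemes with ample families has an ample family. -/
theorem hasAmpleFamily_coprod (hA : MoreMor.HasAmpleFamily A) (hB : MoreMor.HasAmpleFamily B) :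
    MoreMor.HasAmpleFamily (A ⨿ B : Scheme.{u}) := by
  haveI := hA.1
  haveI := hB.1
  refine ⟨(coprodMk A B).compactSpace, fun z => ?_⟩
  obtain ⟨(x | x), rfl⟩ := (coprodMk A B).surjective z
  · rw [coprodMk_inl]
    exact exists_affine_locus_inl hA x
  · rw [coprodMk_inr]
    exact exists_affine_locus_inr hB x

end GrothLib.AdmAmple8
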