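import Groth.Agent.Lib.AdmAmple8.Main
import Groth.Agent.Lib.AdmAmple8.Coprod
import Groth.Agent.Lib.HTop.PhExtend
import Groth.Agent.Lib.StrictTr.Basic
import Groth.Agent.Lib.Nagata6.UnionData
import Groth.Agent.Lib.LocProp.Stalk
import Groth.Agent.S7384
import Groth.Agent.S7184

/-!
# Completely decomposed proper covers with ample families
-/

set_option autoImplicit false
set_option backward.isDefEq.respectTransparency false
set_option linter.style.haveILetI false
universe u

open CategoryTheory CategoryTheory.Limits AlgebraicGeometry TopologicalSpace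

noncomputable section

namespace GrothLib.AdmAmple8

/-- A morphism is completely decomposed over the image of an immersion along which it has a section. -/
theorem exists_point_of_lift {W Y X : Scheme.{u}} (f : Y ⟶ X) (j : W ⟶ X) [IsPreimmersion j]
    (m : W ⟶ Y) (h : m ≫ f = j) (w : W) :
    ∃ y : Y, f y = j w ∧ Function.Bijective (f.residueFieldMap y) := by
  refine ⟨m w, by rw [← Scheme.Hom.comp_apply, h], (f.residueFieldMap (m w)).hom.injective, fun a => ?_⟩
  haveI : IsPreimmersion (m ≫ f) := by rw [h]; infer_instance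
  have hs : Function.Surjective ((m ≫ f).residueFieldMap w) := fun z => by
    obtain ⟨z', rfl⟩ := W.residue_surjective w z
    obtain ⟨q, rfl⟩ := (m ≫ f).stalkMap_surjective w z'
    exact ⟨X.residue _ q, (congr($(Scheme.residue_residueFieldMap (m ≫ f) w) q))⟩
  obtain ⟨z, hz⟩ := hs (m.residueFieldMap w a)
  rw [Scheme.residueFieldMap_comp] at hz
  exact ⟨z, (m.residueFieldMap w).hom.injective hz⟩

/-- The noetherian case. -/
theorem exists_cd_cover_noetherian (X : Scheme.{u}) [IsNoetherian X] :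
    ∃ (Y : Scheme.{u}) (f : Y ⟶ X), IsProper f ∧
      (∀ x : X, ∃ y : Y, f y = x ∧ Function.Bijective (f.residueFieldMap y)) ∧ MoreMor.HasAmpleFamily Y := by
  suffices h : ∀ Z : Closeds X, ∃ (Y : Scheme.{u}) (f : Y ⟶ X), IsProper f ∧
      (∀ x ∈ Z, ∃ y : Y, f y = x ∧ Function.Bijective (f.residueFieldMap y)) ∧ MoreMor.HasAmpleFamily Y by
    obtain ⟨Y, f, h1, h2, h3⟩ := h ⊤
    exact ⟨Y, f, h1, fun x => h2 x trivial, h3⟩
  intro Z
  induction Z using WellFoundedLT.induction with
  | ind Z ih =>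
    let J := Scheme.IdealSheafData.vanishingIdeal (X := X) Z
    let ι := J.subschemeι
    have hrange : Set.range ι = (Z : Set X) := by
      rw [Scheme.IdealSheafData.range_subschemeι, Scheme.IdealSheafData.coe_support_vanishingIdeal]
    haveI : IsLocallyNoetherian J.subscheme := LocallyOfFiniteType.isLocallyNoetherian ι
    haveI : CompactSpace J.subscheme := QuasiCompact.compactSpace_of_compactSpace ι
    haveI : IsNoetherian J.subscheme := {}
    obtain ⟨U, 𝓘, T', b, hUc, hUd, hadm, hb, hamp⟩ :=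
      exists_admissible_blowUp_ampleFamily J.subscheme NoetherianSpace.finite_irreducibleComponents
    haveI : IsProper b := ProjAlg.isProper_of_isProjective (Groth.Agent.S8910.result 𝓘 hadm.1 b hb)
    haveI : IsIso (b ∣_ U) := by
      have := GrothLib.BlowUp.isIso_off_center hb
      exact GrothLib.Nagata6.isIso_restrict_of_le b 𝓘.support.compl U
        fun x hx hxs => Set.disjoint_left.1 hadm.2 hxs hx
    have hover : ∀ t ∈ U, ∃ y : T', (b ≫ ι) y = ι t ∧ Function.Bijective ((b ≫ ι).residueFieldMap y) := fun t ht => by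
      exact exists_point_of_lift (b ≫ ι) (U.ι ≫ ι) (inv (b ∣_ U) ≫ (b ⁻¹ᵁ U).ι)
        (by rw [Category.assoc, ← Category.assoc _ b, ← morphismRestrict_ι, Category.assoc, IsIso.inv_hom_id_assoc]) ⟨t, ht⟩
    by_cases hne : (Z : Set X).Nonempty
    swap
    · exact ⟨T', b ≫ ι, inferInstance, fun x hx => absurd ⟨x, hx⟩ hne, hamp⟩
    let Z' : Closeds X := ⟨ι '' (U : Set J.subscheme)ᶜ, ι.isClosedEmbedding.isClosedMap _ U.2.isClosed_compl⟩
    have hlt : Z' < Z := by
      refine lt_of_le_of_ne (fun x hx => ?_) fun he => ?_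
      · obtain ⟨t, -, rfl⟩ := hx
        exact hrange.le ⟨t, rfl⟩
      · obtain ⟨x, hx⟩ := hne
        obtain ⟨t, -⟩ := hrange.ge hx
        obtain ⟨s, hs⟩ := hUd.inter_open_nonempty _ isOpen_univ ⟨t, trivial⟩
        have : ι s ∈ (Z' : Set X) := by rw [he]; exact hrange.le ⟨s, rfl⟩
        obtain ⟨s', hs', he'⟩ := this
        exact hs' ((ι.isClosedEmbedding.injective he') ▸ hs.2)
    obtain ⟨Y₂, f₂, hf₂, hcd₂, hamp₂⟩ := ih Z' hlt
    haveI := hf₂
    refine ⟨T' ⨿ Y₂, coprod.desc (b ≫ ι) f₂, HTop.isProper_coprodDesc _ _, fun x hx => ?_, hasAmpleFamily_coprod hamp hamp₂⟩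
    obtain ⟨t, rfl⟩ := hrange.ge hx
    have hlift : ∀ {W : Scheme.{u}} (i : W ⟶ (T' ⨿ Y₂ : Scheme.{u})) [IsOpenImmersion i] (g : W ⟶ X),
        i ≫ coprod.desc (b ≫ ι) f₂ = g → ∀ y : W, Function.Bijective (g.residueFieldMap y) →
        ∃ y' : (T' ⨿ Y₂ : Scheme.{u}), coprod.desc (b ≫ ι) f₂ y' = g y ∧
          Function.Bijective ((coprod.desc (b ≫ ι) f₂).residueFieldMap y') := by
      rintro W i _ g rfl y hy
      refine ⟨i y, (Scheme.Hom.comp_apply i _ y).symm, ?_⟩
      rw [Scheme.residueFieldMap_comp] at hy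
      exact (Function.Bijective.of_comp_iff' (ConcreteCategory.bijective_of_isIso (i.residueFieldMap y)) _).1 hy
    by_cases ht : t ∈ U
    · obtain ⟨y, hy, hy'⟩ := hover t ht
      rw [← hy]
      exact hlift coprod.inl (b ≫ ι) (coprod.inl_desc _ _) y hy'
    · obtain ⟨y, hy, hy'⟩ := hcd₂ (ι t) ⟨t, ht, rfl⟩
      rw [← hy]
      exact hlift coprod.inr f₂ (coprod.inr_desc _ _) y hy'

theorem exists_cd_cover (X : Scheme.{u}) [CompactSpace X] [QuasiSeparatedSpace X] :
    ∃ (Y : Scheme.{u}) (f : Y ⟶ X), IsProper f ∧ LocallyOfFinitePresentation f ∧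
      (∀ x : X, ∃ y : Y, f y = x ∧ Function.Bijective (f.residueFieldMap y)) ∧ MoreMor.HasAmpleFamily Y := by
  obtain ⟨I, _, _, _, DX, DS, φ, cX, cS, hcX, hcS, eX, eS, haff, hft, hcomm⟩ := Groth.Agent.S7384.result (𝟙 X)
  haveI : ∀ (i j : Iᵒᵖ) (a : i ⟶ j), IsAffineHom (DX.map a) := fun i j a => (haff i j a).1
  haveI : IsDirectedOrder I := ⟨fun a b => IsDirected.directed (r := fun a b : I => a ≤ b) a b⟩
  haveI : IsCofiltered Iᵒᵖ := inferInstance
  let i₀ : Iᵒᵖ := Opposite.op (Classical.arbitrary I)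
  let p : X ⟶ DX.obj i₀ := eX.inv ≫ cX.π.app i₀
  haveI : IsAffineHom (cX.π.app i₀) := isAffineHom_π_app DX cX hcX i₀
  haveI : IsAffineHom p := inferInstance
  haveI := (hft i₀).1
  haveI := (hft i₀).2.2.1
  haveI : IsNoetherianRing (ULift.{u} ℤ) := isNoetherianRing_of_ringEquiv ℤ ULift.ringEquiv.symm
  haveI : IsLocallyNoetherian (DX.obj i₀) :=
    LocallyOfFiniteType.isLocallyNoetherian (Limits.IsTerminal.from specULiftZIsTerminal (DX.obj i₀))
  haveI : IsNoetherian (DX.obj i₀) := {}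
  obtain ⟨Y₀, f₀, hf₀, hcd, hamp⟩ := exists_cd_cover_noetherian (DX.obj i₀)
  haveI := hf₀
  haveI : LocallyOfFinitePresentation f₀ :=
    GrothLib.LocProp.locallyOfFinitePresentation_of_isLocallyNoetherian f₀
  refine ⟨pullback f₀ p, pullback.snd f₀ p, inferInstance, inferInstance, fun x => ?_,
    Groth.Agent.S7184.result (pullback.fst f₀ p) (Or.inl (MorphismProperty.pullback_fst f₀ p ‹IsAffineHom p›)) hamp⟩
  obtain ⟨y₀, hy₀, hbij⟩ := hcd (p x)
  haveI : IsIso (f₀.residueFieldMap y₀) := (ConcreteCategory.isIso_iff_bijective _).2 hbij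
  let φ₀ : (DX.obj i₀).residueField (f₀ y₀) ⟶ X.residueField x :=
    ((DX.obj i₀).residueFieldCongr hy₀).hom ≫ p.residueFieldMap x
  have hsq : (Spec.map (inv (f₀.residueFieldMap y₀) ≫ φ₀) ≫ Y₀.fromSpecResidueField y₀) ≫ f₀ =
      X.fromSpecResidueField x ≫ p := by
    rw [Category.assoc, ← Scheme.Hom.SpecMap_residueFieldMap_fromSpecResidueField, ← Category.assoc, ← Spec.map_comp,
      IsIso.hom_inv_id_assoc, ← Scheme.Hom.SpecMap_residueFieldMap_fromSpecResidueField, Spec.map_comp, Category.assoc,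
      Scheme.residueFieldCongr_fromSpecResidueField]
  obtain ⟨w⟩ : Nonempty (Spec (X.residueField x)) := inferInstance
  obtain ⟨y, hy, hy'⟩ := exists_point_of_lift (pullback.snd f₀ p) (X.fromSpecResidueField x)
    (pullback.lift _ _ hsq) (pullback.lift_snd _ _ _) w
  exact ⟨y, hy.trans (Scheme.fromSpecResidueField_apply x w), hy'⟩

end GrothLib.AdmAmple8
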