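import Groth.Agent.S1500
import Groth.Agent.S8910
import Groth.Agent.S8859
import Groth.Agent.Lib.ProjQ9.Basic
import Groth.Agent.Lib.BlowUp.Universal
import Groth.Agent.Lib.FgSupport6.Exists
import Mathlib.AlgebraicGeometry.Limits

/-!
# Admissible blow-ups with an ample family
-/

set_option autoImplicit false
set_option backward.isDefEq.respectTransparency false
set_option linter.style.haveILetI false
universe u

open CategoryTheory AlgebraicGeometry TopologicalSpace

namespace GrothLib.AdmAmple8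

variable {X : Scheme.{u}}

/-- A blow-up making finitely many ideals invertible. -/
theorem exists_blowUp_prod {ι : Type*} (I : ι → X.IdealSheafData) (s : Finset ι)
    (hfg : ∀ i, BlowUp.IsFiniteTypeIdeal (I i)) :
    ∃ (J : X.IdealSheafData) (X' : Scheme.{u}) (b : X' ⟶ X), BlowUp.IsFiniteTypeIdeal J ∧
      (∀ x ∈ (J.support : Set X), ∃ i ∈ s, x ∈ ((I i).support : Set X)) ∧ _root_.BlowUp.IsBlowUp b J ∧
      ∀ i ∈ s, _root_.BlowUp.IsEffCartierIdeal ((I i).comap b) := by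
  classical
  induction s using Finset.induction_on with
  | empty =>
    refine ⟨⊤, X, 𝟙 X, fun V => ?_, by simp, ⟨?_, fun Y g _ => ⟨g, Category.comp_id g, fun h hh => ?_⟩⟩, by simp⟩
    · rw [Scheme.IdealSheafData.ideal_top]
      exact ⟨{1}, by simp⟩
    · rw [Scheme.IdealSheafData.comap_id]
      exact GrothLib.BlowUp.isEffCartierIdeal_top
    · simpa using hh
  | insert a s ha ih =>
    obtain ⟨J, X₁, b₁, hJ, hsupp, hb₁, hcart⟩ := ih
    obtain ⟨X₂, b₂, hb₂⟩ := Groth.Agent.S8859.result X₁ ((I a).comap b₁)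
    refine ⟨J * I a, X₂, b₂ ≫ b₁, fun V => ?_, fun x hx => ?_, GrothLib.BlowUp.isBlowUp_comp_mul hb₁ hb₂, fun i hi => ?_⟩
    · rw [Scheme.IdealSheafData.ideal_mul, Pi.mul_apply]
      exact (hJ V).mul (hfg a V)
    · rw [Scheme.IdealSheafData.support_mul] at hx
      rcases hx with hx | hx
      · obtain ⟨i, hi, h⟩ := hsupp x hx
        exact ⟨i, Finset.mem_insert_of_mem hi, h⟩
      · exact ⟨a, Finset.mem_insert_self a s, hx⟩
    · rw [Scheme.IdealSheafData.comap_comp]
      obtain rfl | hi := Finset.mem_insert.1 hi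
      · exact hb₂.1
      · exact GrothLib.BlowUp.isEffCartierIdeal_comap_blowUp hb₂ (hcart i hi)

theorem exists_admissible_blowUp_ampleFamily (X : Scheme.{u}) [CompactSpace X] [QuasiSeparatedSpace X]
    (hirr : (irreducibleComponents X).Finite) :
    ∃ (U : X.Opens) (𝓘 : X.IdealSheafData) (X' : Scheme.{u}) (b : X' ⟶ X),
      IsCompact (U : Set X) ∧ Dense (U : Set X) ∧ BlowUp.IsAdmissibleFor U 𝓘 ∧ BlowUp.IsBlowUp b 𝓘 ∧
      MoreMor.HasAmpleFamily X' := by
  classical
  obtain ⟨t, ht⟩ := isCompact_univ.elim_finite_subcover (fun V : X.affineOpens => ((V.1 : X.Opens) : Set X))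
    (fun V => V.1.2) (fun y _ => by
      obtain ⟨W, hW, hy, -⟩ := exists_isAffineOpen_mem_and_subset (Opens.mem_top y)
      exact Set.mem_iUnion.mpr ⟨⟨W, hW⟩, hy⟩)
  let e := t.equivFin
  let V : Fin t.card → X.affineOpens := fun i => (e.symm i).1
  have hV : ∀ x : X, ∃ i, x ∈ (V i).1 := fun x => by
    obtain ⟨W, hW, hx⟩ := Set.mem_iUnion₂.1 (ht (Set.mem_univ x))
    exact ⟨e ⟨W, hW⟩, by simpa [V] using hx⟩
  -- small affine neighbourhoods of the generic points
  let C := {Z // Z ∈ irreducibleComponents X}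
  haveI : Finite C := hirr.to_subtype
  let η : C → X := fun Z => Z.2.1.genericPoint
  have hη : ∀ Z : C, closure {η Z} = Z.1 := fun Z =>
    IsIrreducible.closure_genericPoint Z.2.1 (isClosed_of_mem_irreducibleComponents Z.1 Z.2)
  let O : C → X.Opens := fun Z =>
    ⟨(⋃ Z' : {Z' : C // Z' ≠ Z}, (Z'.1.1 : Set X))ᶜ ∩ ⋂ i : {i // η Z ∈ (V i).1}, ((V i.1).1 : Set X),
      (isClosed_iUnion_of_finite fun Z' => isClosed_of_mem_irreducibleComponents _ Z'.1.2).isOpen_compl.inter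
        (isOpen_iInter_of_finite fun i => (V i.1).1.2)⟩
  have hηO : ∀ Z, η Z ∈ O Z := fun Z => ⟨fun h => by
      obtain ⟨⟨Z', hne⟩, hmem⟩ := Set.mem_iUnion.1 h
      refine hne (Subtype.ext (le_antisymm (Z.2.2 Z'.2.1 ?_) ?_))
      · rw [← hη Z]
        exact closure_minimal (Set.singleton_subset_iff.2 hmem) (isClosed_of_mem_irreducibleComponents _ Z'.2)
      · rw [← hη Z]
        exact closure_minimal (Set.singleton_subset_iff.2 hmem) (isClosed_of_mem_irreducibleComponents _ Z'.2),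
    Set.mem_iInter.2 fun i => i.2⟩
  have hW' : ∀ Z, ∃ W : X.Opens, IsAffineOpen W ∧ η Z ∈ W ∧ W ≤ O Z := fun Z =>
    exists_isAffineOpen_mem_and_subset (hηO Z)
  choose W hWa hWη hWO using hW'
  have honly : ∀ (Z Z' : C) (x : X), x ∈ W Z → x ∈ Z'.1 → Z' = Z := fun Z Z' x hx hx' => by
    by_contra hne
    exact (hWO Z hx).1 (Set.mem_iUnion.2 ⟨⟨Z', hne⟩, hx'⟩)
  have hself : ∀ (Z : C) (x : X), x ∈ W Z → x ∈ Z.1 := fun Z x hx => by
    obtain ⟨Z', hZ', hxZ'⟩ := (Set.eq_univ_iff_forall.1 sUnion_irreducibleComponents x : _)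
    rw [← honly Z ⟨Z', hZ'⟩ x hx hxZ']
    exact hxZ'
  have hmeet : ∀ (Z : C) (i : Fin t.card) (x : X), x ∈ W Z → x ∈ (V i).1 → η Z ∈ (V i).1 := fun Z i x hx hxV => by
    have : x ∈ closure {η Z} := by rw [hη]; exact hself Z x hx
    obtain ⟨y, hy, rfl⟩ := mem_closure_iff.1 this _ (V i).1.2 hxV
    exact hy
  have hdisj : Pairwise (Function.onFun Disjoint W) := fun Z Z' hne => disjoint_iff.2 (Opens.ext (by
    rw [Opens.coe_inf, Opens.coe_bot, Set.eq_empty_iff_forall_notMem]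
    exact fun x hx => hne (honly Z' Z x hx.2 (hself Z x hx.1))))
  let U : X.Opens := ⨆ Z, W Z
  have hUa : IsAffineOpen U := IsAffineOpen.iSup_of_disjoint hWa hdisj
  let R : Fin t.card → X.Opens := fun i => ⨆ Z : {Z : C // η Z ∉ (V i).1}, W Z.1
  have hRa : ∀ i, IsAffineOpen (R i) := fun i =>
    IsAffineOpen.iSup_of_disjoint (fun Z => hWa _) fun a b hab => hdisj (Subtype.coe_injective.ne hab)
  have hVR : ∀ i, Disjoint (V i).1 (R i) := fun i => disjoint_iff.2 (Opens.ext (by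
    rw [Opens.coe_inf, Opens.coe_bot, Set.eq_empty_iff_forall_notMem]
    rintro x ⟨hxV, hxR⟩
    obtain ⟨Z, hxZ⟩ := Opens.mem_iSup.1 hxR
    exact Z.2 (hmeet _ i x hxZ hxV)))
  let V' : Fin t.card → X.Opens := fun i => (V i).1 ⊔ R i
  have hV'a : ∀ i, IsAffineOpen (V' i) := fun i => IsAffineOpen.sup_of_disjoint (V i).2 (hRa i) (hVR i)
  have hUV : ∀ i, U ≤ V' i := fun i => iSup_le fun Z => by
    by_cases h : η Z ∈ (V i).1
    · exact fun x hx => Or.inl (Set.mem_iInter.1 (hWO Z hx).2 ⟨i, h⟩)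
    · exact le_sup_of_le_right (le_iSup_of_le ⟨Z, h⟩ le_rfl)
  choose I hIfg hIsupp using fun i => FgSupport6.exists_fg_support_eq (V' i) (hV'a i).isCompact
  obtain ⟨J, X', b, hJfg, hJsupp, hb, hcart⟩ := exists_blowUp_prod I Finset.univ hIfg
  refine ⟨U, J, X', b, hUa.isCompact, fun x => ?_, ⟨hJfg, Set.disjoint_left.2 fun x hx hxU => ?_⟩, hb, ?_⟩
  · obtain ⟨Z, hZ, hxZ⟩ := (Set.eq_univ_iff_forall.1 sUnion_irreducibleComponents x : _)
    refine closure_mono (Set.singleton_subset_iff.2 (Opens.mem_iSup.2 ⟨⟨Z, hZ⟩, hWη _⟩)) ?_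
    rw [hη ⟨Z, hZ⟩]
    exact hxZ
  · obtain ⟨i, -, hxi⟩ := hJsupp x hx
    rw [hIsupp] at hxi
    exact hxi (hUV i hxU)
  · obtain ⟨-, -, L, hL⟩ := ProjQ9.isQuasiProjective_of_isProjective (Groth.Agent.S8910.result J hJfg b hb)
    refine Groth.Agent.S1500.result (fun i => (I i).comap b) (fun i => hcart i (Finset.mem_univ i)) ?_ (fun _ => L)
      (fun _ => GrothLib.Ample.isInvertible_of_isRelAmple hL) fun i => ?_
    · rw [Set.eq_empty_iff_forall_notMem]
      intro y hy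
      obtain ⟨i, hi⟩ := hV (b y)
      have := Set.mem_iInter.1 hy i
      rw [Scheme.IdealSheafData.support_comap] at this
      have h2 : b y ∈ ((I i).support : Set X) := this
      rw [hIsupp] at h2
      exact h2 (Or.inl hi)
    · have heq : ((I i).comap b).support.compl = b ⁻¹ᵁ V' i := Opens.ext (by
        rw [Scheme.IdealSheafData.support_comap]
        show (b ⁻¹' ((I i).support : Set X))ᶜ = b ⁻¹' (V' i : Set X)
        rw [hIsupp, Set.preimage_compl, compl_compl])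
      rw [heq]
      exact hL.2 ⟨V' i, hV'a i⟩

end GrothLib.AdmAmple8
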